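import Mathlib
import Cfsg.Agent.H952.F4.Defs
import Cfsg.Agent.H952.F4.Defs2
import Cfsg.Agent.ChevalleyStructure.E6Min.Adjoint
import Cfsg.Agent.ChevalleyStructure.E6Min.Torus
import Cfsg.Agent.H184.GraphE6.Dual

/-!
# S5927, S5928: common definitions (helper163)

* `V F`, `V' F` : the two 27-dimensional modules `I27 → F` of the simply connected group `Zgrp F` (`g` acts by the
  matrix `g`, respectively by `gU g = P g⁻ᵀ P`, so that `tf (V g x) (V' g y) = tf x y`);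
* `L F` : the adjoint module (through `ad : Zgrp F →* chevE6.group F`);
* `sh`, `cr`, `tf`, `cubicT` : as in `H952/F4/Defs.lean`; `sh, cr : V → V'` and `V' → V`;
* `Lift`, `Cover` : the two possibilities for the preimage of an alternating group;
* `Stab ρ H W`, `Sing`, `TS` : stable subspaces, singular vectors, totally singular subspaces;
* `Tab p F` : class table of the elements of order 2, 3, 4, 5, 7.
-/

set_option autoImplicit false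

namespace Cfsg.Agent.H163.E6

open Cfsg Cfsg.Lie Module
open Cfsg.Agent.ChevalleyStructure.E6Min.Tables Cfsg.Agent.ChevalleyStructure.E6Min.Basic
  Cfsg.Agent.ChevalleyStructure.E6Min.Adjoint
open Cfsg.Agent.H184.GraphE6 (gU gU_mul)
open Cfsg.Agent.H952.F4 (ev es matRep sh cr tf MaxAlt)

section
variable (F : Type*) [Field F]

/-- the 27-dimensional module -/
noncomputable def V : Representation F ↥(Zgrp F) (I27 → F) := matRep (Zgrp F)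

/-- the matrix `gU g` -/
noncomputable def gUHom : GL I27 F →* GL I27 F := MonoidHom.mk' gU gU_mul

/-- the dual 27-dimensional module, on the same space -/
noncomputable def V' : Representation F ↥(Zgrp F) (I27 → F) :=
  ((Matrix.toLinAlgEquiv' : Matrix I27 I27 F ≃ₐ[F] ((I27 → F) →ₗ[F] (I27 → F))) : Matrix I27 I27 F →* _).comp
    ((Units.coeHom (Matrix I27 I27 F)).comp ((gUHom F).comp (Zgrp F).subtype))

/-- the adjoint module of the Chevalley group -/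
noncomputable def LK : Representation F ↥(chevE6.group F) (chevE6.Idx → F) := matRep (chevE6.group F)

/-- the adjoint module -/
noncomputable def L : Representation F ↥(Zgrp F) (chevE6.Idx → F) :=
  MonoidHom.comp (LK F) (ad F)

end

variable {F : Type*} [Field F]

theorem V_apply (g : ↥(Zgrp F)) (x : I27 → F) :
    V F g x = ((g : GL I27 F) : Matrix I27 I27 F).mulVec x := rfl

theorem V'_apply (g : ↥(Zgrp F)) (x : I27 → F) :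
    V' F g x = ((gU (g : GL I27 F) : GL I27 F) : Matrix I27 I27 F).mulVec x := rfl

theorem L_eq (g : ↥(Zgrp F)) : L F g = LK F (ad F g) := rfl

/-- `ψ` is a lift of `φ` to the simply connected group -/
def Lift {A : Type*} [Group A] (φ : A →* ↥(chevE6.group F)) (ψ : A →* ↥(Zgrp F)) : Prop := ∀ a, ad F (ψ a) = φ a

/-- the scalar matrix `c` as an element of the general linear group -/
def scal (c : Fˣ) : GL I27 F := Units.map (algebraMap F (Matrix I27 I27 F)).toMonoidHom c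

/-- the preimage of the image of `φ` is a non-split central extension with centre of order 3: the scalar `ω` of order 3
belongs to its commutator subgroup -/
def Cover {A : Type*} [Group A] (φ : A →* ↥(chevE6.group F)) (ω : Fˣ) : Prop :=
  ω ≠ 1 ∧ ω ^ 3 = 1 ∧ ∃ z : ↥(Zgrp F), (z : GL I27 F) = scal ω ∧
    z ∈ (⁅(φ.range.comap (ad F)), (φ.range.comap (ad F))⁆ : Subgroup ↥(Zgrp F))

/-- `W` is stable under the preimage of `H` -/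
def Stab {M : Type*} [AddCommGroup M] [Module F M] (ρ : Representation F ↥(Zgrp F) M)
    (H : Subgroup ↥(chevE6.group F)) (W : Submodule F M) : Prop :=
  ∀ g : ↥(Zgrp F), ad F g ∈ H → ∀ w ∈ W, ρ g w ∈ W

/-- totally singular subspaces of `V` (or of `V'`) -/
def TS (W : Submodule F (I27 → F)) : Prop := (∀ x ∈ W, sh x = 0) ∧ ∀ x ∈ W, ∀ y ∈ W, cr x y = 0

/-- The class table of the elements of order 2, 3, 4, 5, 7 (prime to `p`) of the simply connected group on `V` and `L`. -/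
structure Tab (p : ℕ) (F : Type*) [Field F] : Prop where
  two : p ≠ 2 → ∀ x : ↥(Zgrp F), x ≠ 1 → x * x = 1 →
    (ev (V F x) 1 = 15 ∧ ev (L F x) 1 = 38 ∧ LinearMap.trace F _ (V F x) = 3 ∧ LinearMap.trace F _ (L F x) = -2) ∨
    (ev (V F x) 1 = 11 ∧ ev (L F x) 1 = 46 ∧ LinearMap.trace F _ (V F x) = -5 ∧ LinearMap.trace F _ (L F x) = 14)
  three : p ≠ 3 → ∀ x : ↥(Zgrp F), ad F x ≠ 1 → x ^ 3 = 1 →
    (ev (V F x) 1 = 15 ∧ ev (L F x) 1 = 36 ∧ LinearMap.trace F _ (V F x) = 9 ∧ LinearMap.trace F _ (L F x) = 15) ∨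
    (ev (V F x) 1 = 9 ∧ ev (L F x) 1 = 30 ∧ LinearMap.trace F _ (V F x) = 0 ∧ LinearMap.trace F _ (L F x) = 6) ∨
    (ev (V F x) 1 = 9 ∧ ev (L F x) 1 = 24 ∧ LinearMap.trace F _ (V F x) = 0 ∧ LinearMap.trace F _ (L F x) = -3) ∨
    (ev (V F x) 1 = 6 ∧ ev (L F x) 1 = 36 ∧ LinearMap.trace F _ (V F x) ≠ 9 ∧ LinearMap.trace F _ (L F x) = 15)
  /-- real elements of order 3 have not `ev (V F x) 1 = 6` -/
  three_real : p ≠ 3 → ∀ x : ↥(Zgrp F), ad F x ≠ 1 → x ^ 3 = 1 → (∃ g, g * x * g⁻¹ = x⁻¹) → ev (V F x) 1 ≠ 6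
  four : p ≠ 2 → ∀ x : ↥(Zgrp F), x * x ≠ 1 → x ^ 4 = 1 →
    (ev (V F (x * x)) 1 = 15 ∧ ev (L F (x * x)) 1 = 38 ∧ ev (V F x) 1 = 15 ∧ ev (V F x) (-1) = 0 ∧ ev (L F x) 1 = 36 ∧
      ev (L F x) (-1) = 2) ∨
    (ev (V F (x * x)) 1 = 11 ∧ ev (L F (x * x)) 1 = 46 ∧ ev (V F x) 1 = 9 ∧ ev (V F x) (-1) = 2 ∧ ev (L F x) 1 = 30 ∧
      ev (L F x) (-1) = 16) ∨
    (ev (V F (x * x)) 1 = 15 ∧ ev (L F (x * x)) 1 = 38 ∧ ev (V F x) 1 = 9 ∧ ev (V F x) (-1) = 6 ∧ ev (L F x) 1 = 20 ∧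
      ev (L F x) (-1) = 18) ∨
    (ev (V F (x * x)) 1 = 15 ∧ ev (L F (x * x)) 1 = 38 ∧ ev (V F x) 1 = 7 ∧ ev (V F x) (-1) = 8 ∧ ev (L F x) 1 = 20 ∧
      ev (L F x) (-1) = 18) ∨
    (ev (V F (x * x)) 1 = 11 ∧ ev (L F (x * x)) 1 = 46 ∧ ev (V F x) 1 = 5 ∧ ev (V F x) (-1) = 6 ∧ ev (L F x) 1 = 22 ∧
      ev (L F x) (-1) = 24) ∨
    (ev (V F (x * x)) 1 = 15 ∧ ev (L F (x * x)) 1 = 38 ∧ ev (V F x) 1 = 5 ∧ ev (V F x) (-1) = 10 ∧ ev (L F x) 1 = 28 ∧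
      ev (L F x) (-1) = 10) ∨
    (ev (V F (x * x)) 1 = 11 ∧ ev (L F (x * x)) 1 = 46 ∧ ev (V F x) 1 = 5 ∧ ev (V F x) (-1) = 6 ∧ ev (L F x) 1 = 26 ∧
      ev (L F x) (-1) = 20) ∨
    (ev (V F (x * x)) 1 = 11 ∧ ev (L F (x * x)) 1 = 46 ∧ ev (V F x) 1 = 1 ∧ ev (V F x) (-1) = 10 ∧ ev (L F x) 1 = 46 ∧
      ev (L F x) (-1) = 0)
  /-- real elements of order 4: the first five rows, with the traces -/
  four_real : p ≠ 2 → ∀ x : ↥(Zgrp F), x * x ≠ 1 → x ^ 4 = 1 → (∃ g, g * x * g⁻¹ = x⁻¹) →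
    (ev (V F (x * x)) 1 = 15 ∧ ev (V F x) 1 = 15 ∧ ev (L F x) 1 = 36 ∧
      LinearMap.trace F _ (V F x) = 15 ∧ LinearMap.trace F _ (L F x) = 34) ∨
    (ev (V F (x * x)) 1 = 11 ∧ ev (V F x) 1 = 9 ∧ ev (L F x) 1 = 30 ∧
      LinearMap.trace F _ (V F x) = 7 ∧ LinearMap.trace F _ (L F x) = 14) ∨
    (ev (V F (x * x)) 1 = 15 ∧ ev (V F x) 1 = 9 ∧ ev (L F x) 1 = 20 ∧
      LinearMap.trace F _ (V F x) = 3 ∧ LinearMap.trace F _ (L F x) = 2) ∨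
    (ev (V F (x * x)) 1 = 15 ∧ ev (V F x) 1 = 7 ∧ ev (L F x) 1 = 20 ∧
      LinearMap.trace F _ (V F x) = -1 ∧ LinearMap.trace F _ (L F x) = 2) ∨
    (ev (V F (x * x)) 1 = 11 ∧ ev (V F x) 1 = 5 ∧ ev (L F x) 1 = 22 ∧
      LinearMap.trace F _ (V F x) = -1 ∧ LinearMap.trace F _ (L F x) = -2)
  four_i : p ≠ 2 → ∀ x : ↥(Zgrp F), x ^ 4 = 1 → (∃ g, g * x * g⁻¹ = x⁻¹) → ∀ i : F, i * i = -1 →
    ev (V F x) i = ev (V F x) (-i)
  five : p ≠ 5 → ∀ x : ↥(Zgrp F), x ≠ 1 → x ^ 5 = 1 → (∃ g, g * x * g⁻¹ = x⁻¹) →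
    (ev (V F x) 1 = 15 ∧ ev (L F x) 1 = 36) ∨ (ev (V F x) 1 = 9 ∧ ev (L F x) 1 = 30) ∨
    (ev (V F x) 1 = 9 ∧ ev (L F x) 1 = 20) ∨ (ev (V F x) 1 = 7 ∧ ev (L F x) 1 = 18) ∨
    (ev (V F x) 1 = 5 ∧ ev (L F x) 1 = 16)
  /-- the other eigenspaces of real elements of order 5 -/
  five_eig : p ≠ 5 → ∀ x : ↥(Zgrp F), x ^ 5 = 1 → (∃ g, g * x * g⁻¹ = x⁻¹) → ∀ μ : F, μ ≠ 1 → μ ^ 5 = 1 →
    (ev (V F x) 1 = 15 → (ev (V F x) μ = 6 ∧ ev (V F x) (μ ^ 2) = 0) ∨ (ev (V F x) μ = 0 ∧ ev (V F x) (μ ^ 2) = 6)) ∧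
    (ev (V F x) 1 = 9 → ev (L F x) 1 = 30 →
      (ev (V F x) μ = 8 ∧ ev (V F x) (μ ^ 2) = 1) ∨ (ev (V F x) μ = 1 ∧ ev (V F x) (μ ^ 2) = 8)) ∧
    (ev (V F x) 1 = 9 → ev (L F x) 1 = 20 →
      (ev (V F x) μ = 6 ∧ ev (V F x) (μ ^ 2) = 3) ∨ (ev (V F x) μ = 3 ∧ ev (V F x) (μ ^ 2) = 6)) ∧
    (ev (V F x) 1 = 7 → ev (V F x) μ = 5 ∧ ev (L F x) μ = 15) ∧
    (ev (V F x) 1 = 5 → (ev (V F x) μ = 6 ∧ ev (V F x) (μ ^ 2) = 5 ∧ ev (L F x) μ = 15 ∧ ev (L F x) (μ ^ 2) = 16) ∨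
      (ev (V F x) μ = 5 ∧ ev (V F x) (μ ^ 2) = 6 ∧ ev (L F x) μ = 16 ∧ ev (L F x) (μ ^ 2) = 15))
  five_rat : p ≠ 5 → ∀ x : ↥(Zgrp F), x ≠ 1 → x ^ 5 = 1 → (∃ g, g * x * g⁻¹ = x ^ 2) →
    ev (V F x) 1 = 7 ∧ ev (L F x) 1 = 18 ∧ LinearMap.trace F _ (V F x) = 2 ∧ LinearMap.trace F _ (L F x) = 3
  seven_rat : p ≠ 7 → ∀ x : ↥(Zgrp F), x ≠ 1 → x ^ 7 = 1 → (∃ g, g * x * g⁻¹ = x ^ 2) →
    (ev (V F x) 1 = 9 ∧ ev (L F x) 1 = 18 ∧ LinearMap.trace F _ (V F x) = 6 ∧ LinearMap.trace F _ (L F x) = 8) ∨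
    (ev (V F x) 1 = 3 ∧ ev (L F x) 1 = 12 ∧ LinearMap.trace F _ (V F x) = -1 ∧ LinearMap.trace F _ (L F x) = 1) ∨
    (ev (V F x) 1 = 0 ∧ ev (L F x) 1 = 30 ∧ LinearMap.trace F _ (L F x) = 22)

end Cfsg.Agent.H163.E6
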