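import Mathlib
import Cfsg.Agent.H163.E6.Defs
import Cfsg.Agent.H65.E6Emb

/-!
# S5927, S5928: the situation (helper163)

`Sit H n φ` : the consequences of maximality used by the case analysis, valid for maximal subgroups of `E₆(q)` (`F = F_q`)
and of `²E₆(q)` (`F = F_{q²}`, the subgroup mapped into `chevE6.group F`). `Small`, `Twist`: the additional facts of
the two situations.
-/

set_option autoImplicit false

namespace Cfsg.Agent.H163.E6

open Cfsg Cfsg.Lie Module
open Cfsg.Agent.ChevalleyStructure.E6Min.Tables Cfsg.Agent.ChevalleyStructure.E6Min.Basic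
  Cfsg.Agent.ChevalleyStructure.E6Min.Adjoint
open Cfsg.Agent.H952.F4 (ev es matRep sh cr tf MaxAlt)

universe u

variable {F : Type u} [Field F]

structure Sit (H : Subgroup ↥(chevE6.group F)) (n : ℕ) (φ : ↥(alternatingGroup (Fin n)) →* ↥(chevE6.group F)) :
    Prop where
  inj : Function.Injective φ
  le : φ.range ≤ H
  norm : ∀ h ∈ H, ∀ a ∈ φ.range, h * a * h⁻¹ ∈ φ.range
  sq : ∀ h ∈ H, h * h ∈ φ.range
  card : Nat.card ↥H ≤ if n = 6 then 1440 else n.factorial
  five : n = 5 → H = φ.range ∨ ∀ a ∈ φ.range, a ≠ 1 → a ^ 5 = 1 → ∃ h ∈ H, h * a * h⁻¹ = a ^ 2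
  /-- the centralizer of the alternating group in `H` is trivial -/
  cent : ∀ h ∈ H, (∀ a, φ a * h = h * φ a) → h = 1
  /-- no fixed vectors -/
  no_fixed : ∀ ψ : ↥(alternatingGroup (Fin n)) →* ↥(Zgrp F), Lift φ ψ →
    Representation.invariants (MonoidHom.comp (V F) ψ) = ⊥ ∧ Representation.invariants (MonoidHom.comp (V' F) ψ) = ⊥
  /-- no `H`-stable lines -/
  no_line : ∀ ρ : Representation F ↥(Zgrp F) (I27 → F), (ρ = V F ∨ ρ = V' F) → ∀ W : Submodule F (I27 → F),
    Stab ρ H W → finrank F ↥W ≠ 1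
  /-- no totally singular 3-dimensional subspace stable under the alternating group (SING3) -/
  no_three : (n ≠ 5 ∨ (2 : F) ≠ 0) → ∀ ρ : Representation F ↥(Zgrp F) (I27 → F), (ρ = V F ∨ ρ = V' F) →
    ∀ W : Submodule F (I27 → F), Stab ρ φ.range W → finrank F ↥W = 3 → ¬ TS W
  /-- SING3 over the quadratic extension, if `t² = t + 1` has no root in `F` (for `E₆(q)` only) -/
  no_three_ext : (n ≠ 5 ∨ (2 : F) ≠ 0) → (∀ t : F, t * t ≠ t + 1) → ∀ (E : Type u) [Field E] [Finite E] (f : F →+* E),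
    Nat.card E = Nat.card F ^ 2 → ∀ ρ : Representation E ↥(Zgrp E) (I27 → E), (ρ = V E ∨ ρ = V' E) →
    ∀ W : Submodule E (I27 → E), (∀ g : ↥(Zgrp F), ad F g ∈ φ.range → ∀ w ∈ W, ρ (H65.E6Emb.emb f g) w ∈ W) →
    finrank E ↥W = 3 → ¬ TS W
  /-- no totally singular 6-dimensional subspace stable under the alternating group (SING6) -/
  no_six : ∀ ρ : Representation F ↥(Zgrp F) (I27 → F), (ρ = V F ∨ ρ = V' F) →
    ∀ W : Submodule F (I27 → F), Stab ρ φ.range W → finrank F ↥W = 6 → ¬ TS W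
  /-- no one-parameter group `1 + t a` (for example root elements) commutes with the alternating group -/
  no_add : ∀ a : (I27 → F) →ₗ[F] (I27 → F), a ≠ 0 → (∀ x, a (a x) = 0) →
    (∀ t : F, ∃ g : ↥(Zgrp F), (∀ x, V F g x = x + t • a x) ∧ ∀ b, φ b * ad F g = ad F g * φ b) → False

/-- additional fact for `E₆(q)` -/
def Small (H : Subgroup ↥(chevE6.group F)) : Prop :=
  ∀ ρ : Representation F ↥(Zgrp F) (I27 → F), (ρ = V F ∨ ρ = V' F) → ∀ W : Submodule F (I27 → F),
    Stab ρ H W → 1 ≤ finrank F ↥W → 4 ≤ finrank F ↥W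

/-- the derived subgroup of the preimage of the alternating group: `A` itself or the three-fold cover -/
noncomputable def Bgrp {A : Type*} [Group A] (φ : A →* ↥(chevE6.group F)) : Subgroup ↥(Zgrp F) :=
  ⁅φ.range.comap (ad F), φ.range.comap (ad F)⁆

/-- additional facts for `²E₆(q)`, `|F| = q²` -/
structure Twist (q : ℕ) {A : Type*} [Group A] (φ : A →* ↥(chevE6.group F)) : Prop where
  card : Nat.card F = q ^ 2
  /-- the centre of the cover belongs to the unitary group -/
  cov : ∀ ω : Fˣ, Cover φ ω → ω ^ (q + 1) = 1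
  /-- `V` twisted by the Frobenius map is the dual of `V` -/
  eig : ∀ g ∈ Bgrp φ, ∀ μ : F, μ ≠ 0 → ev (V F g) (μ ^ q) = ev (V F g) μ⁻¹

end Cfsg.Agent.H163.E6
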